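import Cfsg.Agent.Sakuma.Axis

/-!
The relations among the axes `a₋₂, …, a₄` and the polynomial constraints on the inner products
of two Majorana axes.
-/

set_option autoImplicit false

namespace Cfsg.Agent.Sakuma

open Ax

/-- The nine admissible pairs of inner products. -/
theorem roots_of_eqs (x y : ℝ)
    (E : -28 * x ^ 4 - 35 / 64 * x ^ 2 * y + 497 / 16 * x ^ 3 - 7 / 4096 * y ^ 2 - 973 / 8192 * x * y
      - 315 / 128 * x ^ 2 + 1169 / 524288 * y + 525 / 8192 * x - 273 / 524288 = 0)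
    (C : 2048 * x ^ 5 + 100 * x ^ 3 * y - 2308 * x ^ 4 + 23 / 64 * x * y ^ 2 - 389 / 64 * x ^ 2 * y
      + 1347 / 8 * x ^ 3 + 87 / 8192 * y ^ 2 + 5183 / 8192 * x * y - 105 / 32 * x ^ 2
      - 2901 / 262144 * y - 63 / 8192 * x + 117 / 262144 = 0) :
    x = 1 ∨ (x = 0 ∧ y = 1) ∨ (x = 1 / 8 ∧ y = 1) ∨ (x = 13 / 256 ∧ y = 13 / 256) ∨
      (x = 1 / 64 ∧ y = 1 / 64) ∨ (x = 1 / 32 ∧ y = 0) ∨ (x = 1 / 64 ∧ y = 1 / 8) ∨
      (x = 3 / 128 ∧ y = 3 / 128) ∨ (x = 5 / 256 ∧ y = 13 / 256) := by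
  have T : (-(105 / 4096) * x ^ 3 - 15435 / 262144 * x ^ 2 + 41685 / 67108864 * x + 20475 / 4294967296) * y
      + (-(105 / 16) * x ^ 5 + 14175 / 2048 * x ^ 4 - 34965 / 131072 * x ^ 3 - 9135 / 1048576 * x ^ 2
        + 32235 / 67108864 * x - 20475 / 4294967296) = 0 := by
    linear_combination (23 / 64 * x + 87 / 8192) * E + 7 / 4096 * C
  have P : (x - 1) * x * (8 * x - 1) * (256 * x - 13) * (64 * x - 1) ^ 2 * (32 * x - 1) * (128 * x - 3)
      * (256 * x - 5) = 0 := by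
    linear_combination (147573952589676412928 / 3781575 : ℝ) *
        (-(105 / 4096) * x ^ 3 - 15435 / 262144 * x ^ 2 + 41685 / 67108864 * x + 20475 / 4294967296) ^ 2 * E
      - (147573952589676412928 / 3781575 : ℝ) *
        (-(7 / 4096) * (-(105 / 4096) * x ^ 3 - 15435 / 262144 * x ^ 2 + 41685 / 67108864 * x + 20475 / 4294967296) * y
          + (-(35 / 64) * x ^ 2 - 973 / 8192 * x + 1169 / 524288)
            * (-(105 / 4096) * x ^ 3 - 15435 / 262144 * x ^ 2 + 41685 / 67108864 * x + 20475 / 4294967296)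
          + 7 / 4096 * (-(105 / 16) * x ^ 5 + 14175 / 2048 * x ^ 4 - 34965 / 131072 * x ^ 3
              - 9135 / 1048576 * x ^ 2 + 32235 / 67108864 * x - 20475 / 4294967296)) * T
  simp only [mul_eq_zero, pow_eq_zero_iff two_ne_zero, sub_eq_zero] at P
  rcases P with (((((((h | h) | h) | h) | h) | h) | h) | h)
  · exact Or.inl h
  · subst h
    exact Or.inr (Or.inl ⟨rfl, by linarith⟩)
  · obtain rfl : x = 1 / 8 := by linarith
    exact Or.inr (Or.inr (Or.inl ⟨rfl, by linarith⟩))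
  · obtain rfl : x = 13 / 256 := by linarith
    exact Or.inr (Or.inr (Or.inr (Or.inl ⟨rfl, by linarith⟩)))
  · obtain rfl : x = 1 / 64 := by linarith
    have : (y - 1 / 64) * (y - 1 / 8) = 0 := by linear_combination (-4096 / 7 : ℝ) * E
    rcases mul_eq_zero.1 this with h' | h'
    · exact Or.inr (Or.inr (Or.inr (Or.inr (Or.inl ⟨rfl, sub_eq_zero.1 h'⟩))))
    · exact Or.inr (Or.inr (Or.inr (Or.inr (Or.inr (Or.inr (Or.inl ⟨rfl, sub_eq_zero.1 h'⟩))))))
  · obtain rfl : x = 1 / 32 := by linarith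
    exact Or.inr (Or.inr (Or.inr (Or.inr (Or.inr (Or.inl ⟨rfl, by linarith⟩)))))
  · obtain rfl : x = 3 / 128 := by linarith
    exact Or.inr (Or.inr (Or.inr (Or.inr (Or.inr (Or.inr (Or.inr (Or.inl ⟨rfl, by linarith⟩)))))))
  · obtain rfl : x = 5 / 256 := by linarith
    exact Or.inr (Or.inr (Or.inr (Or.inr (Or.inr (Or.inr (Or.inr (Or.inr ⟨rfl, by linarith⟩)))))))

variable {V : Type*} [AddCommGroup V] [Module ℝ V]

set_option maxHeartbeats 1600000 in
/-- The constraints on `x = ⟨a₀,a₁⟩`, `y = ⟨a₀,a₂⟩`, the value of `⟨a₀,a₃⟩`, and the criterion for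
period five. -/
theorem relations {mul : V →ₗ[ℝ] V →ₗ[ℝ] V} {B : LinearMap.BilinForm ℝ V} {μ ν : V ≃ₗ[ℝ] V}
    {a0 a1 : V} (h0 : Ax mul B μ a0) (h1 : Ax mul B ν a1) {x y : ℝ}
    (hx : B a0 a1 = x) (hy : B a0 (ν a0) = y) :
    (x = 1 ∨ (x = 0 ∧ y = 1) ∨ (x = 1 / 8 ∧ y = 1) ∨ (x = 13 / 256 ∧ y = 13 / 256) ∨
      (x = 1 / 64 ∧ y = 1 / 64) ∨ (x = 1 / 32 ∧ y = 0) ∨ (x = 1 / 64 ∧ y = 1 / 8) ∨
      (x = 3 / 128 ∧ y = 3 / 128) ∨ (x = 5 / 256 ∧ y = 13 / 256)) ∧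
    B a0 (ν (μ a1)) = -(32768 / 7) * x ^ 3 - 1920 / 7 * x * y + 36864 / 7 * x ^ 2 - 33 / 7 * y
      - 2169 / 7 * x + 33 / 7 ∧
    (x = 3 / 128 → y = 3 / 128 → B (μ (ν a0)) (ν (μ a1)) = 1) := by
  obtain ⟨a2, hA2⟩ : ∃ t, ν a0 = t := ⟨_, rfl⟩
  obtain ⟨m1, hM1⟩ : ∃ t, μ a1 = t := ⟨_, rfl⟩
  obtain ⟨m2, hM2⟩ : ∃ t, μ a2 = t := ⟨_, rfl⟩
  obtain ⟨a3, hA3⟩ : ∃ t, ν m1 = t := ⟨_, rfl⟩
  obtain ⟨a4, hA4⟩ : ∃ t, ν m2 = t := ⟨_, rfl⟩
  obtain ⟨s, hs⟩ : ∃ t, t = sig mul a0 a1 := ⟨_, rfl⟩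
  obtain ⟨e, he⟩ : ∃ t, t = sig mul a0 a2 := ⟨_, rfl⟩
  obtain ⟨o, ho⟩ : ∃ t, t = sig mul a1 m1 := ⟨_, rfl⟩
  rw [hA2] at hy
  rw [hA2, hM2, hM1, hA3]
  -- the involutions
  have inv : ∀ {η : V ≃ₗ[ℝ] V} {c : V}, Ax mul B η c → ∀ v, η (η v) = v := by
    intro η c h v
    obtain ⟨p, q, r, hp, hq, hr, hv⟩ := h.decomp v
    rw [hv]
    simp only [map_add, map_smul, map_neg, h.fix1, h.fix0 hp, h.fix4 hq, h.neg32 hr, neg_neg]
  have μm1 : μ m1 = a1 := by rw [← hM1, inv h0]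
  have μm2 : μ m2 = a2 := by rw [← hM2, inv h0]
  have νa2 : ν a2 = a0 := by rw [← hA2, inv h1]
  have νa3 : ν a3 = m1 := by rw [← hA3, inv h1]
  -- products
  have hs' : s = sig mul a1 a0 := hs.trans (h0.sig_comm a0 a1)
  have hx' : B a1 a0 = x := (h0.symm a1 a0).trans hx
  obtain ⟨μs, pm1, pa0s, -, -, -⟩ := h0.key a1 hM1 hs hx
  obtain ⟨νs, pa2, pa1s, -, -, -⟩ := h1.key a0 hA2 hs' hx'
  obtain ⟨μe, pm2, pa0e, -, -, -⟩ := h0.key a2 hM2 he hy
  obtain ⟨νo, pa3, pa1o, -, -, -⟩ := h1.key m1 hA3 ho (x := B a1 m1) rfl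
  have μo : μ o = o := by
    rw [ho, sig, map_sub, map_smul, map_add, h0.mapMul, hM1, μm1, h0.comm m1 a1, add_comm m1 a1]
  have νe : ν e = e := by
    rw [he, sig, map_sub, map_smul, map_add, h1.mapMul, hA2, νa2, h0.comm a2 a0, add_comm a2 a0]
  -- the two parities agree
  have u2 : B a2 a2 = 1 := by rw [← hA2, h1.isom, h0.unit]
  have um1 : B m1 m1 = 1 := by rw [← hM1, h0.isom, h1.unit]
  have um2 : B m2 m2 = 1 := by rw [← hM2, h0.isom, u2]
  have b0m1 : B a0 m1 = x := by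
    conv_lhs => rw [← hM1, ← h0.fix1]
    rw [h0.isom, hx]
  have b12 : B a1 a2 = x := by
    conv_lhs => rw [← hA2, ← h1.fix1]
    rw [h1.isom, hx']
  have hz : B a1 m1 = y := by
    have h : B a1 (mul a0 s) = B a0 (mul a1 s) := by
      rw [h0.assoc, h0.assoc, h0.comm a1 a0]
    rw [pa0s, pa1s] at h
    simp only [map_add, map_smul, smul_eq_mul, hx, hx', h0.unit, h1.unit, hy] at h
    have hsa : B a1 s = B a0 s := by
      rw [hs, sig]
      simp only [map_sub, map_smul, map_add, smul_eq_mul, hx, hx', h0.unit, h1.unit]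
      rw [h0.assoc a1 a0 a1, h0.assoc a0 a0 a1, h0.idem, h0.comm a1 a0, ← h0.assoc a0 a1 a1, h1.idem]
      ring
    rw [hsa] at h
    linarith
  rw [hz] at pa1o
  obtain ⟨pa0o, pss0⟩ := products h0 h1 hA2 hM1 hM2 hs he ho hx hy hz
  obtain ⟨pa1e, pss1⟩ := products h1 h0 hM1 hA2 hA3 hs' ho he hx' hz hy
  have R : (7 / 6 * x ^ 2 + 7 / 1536 * y - 21 / 256 * x + 77 / 65536) • a0
      + (-(7 / 6) * x ^ 2 - 7 / 1536 * y + 21 / 256 * x - 77 / 65536) • a1
      + (49 / 768 * x - 49 / 32768) • m1 + (-(49 / 6144) : ℝ) • e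
      + (-(49 / 768) * x + 49 / 32768) • a2 + (49 / 196608 : ℝ) • m2
      + (49 / 6144 : ℝ) • o + (-(49 / 196608) : ℝ) • a3 = 0 := by
    linear_combination (norm := module) pss1 - pss0
  have pa01 : mul a0 a1 = s + (1 / 32 : ℝ) • (a0 + a1) := by rw [hs]; exact sig_prod a0 a1
  have pa10 : mul a1 a0 = s + (1 / 32 : ℝ) • (a0 + a1) := (h0.comm a1 a0).trans pa01
  have pa02 : mul a0 a2 = e + (1 / 32 : ℝ) • (a0 + a2) := by rw [he]; exact sig_prod a0 a2
  have pa1m1 : mul a1 m1 = o + (1 / 32 : ℝ) • (a1 + m1) := by rw [ho]; exact sig_prod a1 m1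
  -- the first expression for the product at distance three
  have X : (-(49 / 196608) : ℝ) • mul a0 a3
      + ((301 / 288 * x ^ 2 - 35 / 18432 * y - 4879 / 73728 * x + 9541 / 9437184) • a0
      + (-(7 / 6) * x ^ 2 - 7 / 1536 * y + 133 / 576 * x - 3437 / 589824) • s
      + (-(7 / 192) * x ^ 2 - 7 / 49152 * y + 287 / 73728 * x - 203 / 2359296) • a1
      + (245 / 73728 * x - 1813 / 18874368) • m1
      + (-(49 / 768) * x + 343 / 589824) • e
      + (-(49 / 24576) * x + 539 / 18874368) • a2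
      + (-(49 / 4718592) : ℝ) • m2) = 0 := by
    have h := congrArg (mul a0) R
    simp only [map_add, map_smul, map_zero, h0.idem, pa01, pm1, pa02, pm2, pa0e, pa0o] at h
    linear_combination (norm := module) h
  -- the second one, freed of `a₃`
  have Y : (49 / 196608 : ℝ) • mul a1 m2
      + ((7 / 6 * x ^ 2 + 7 / 1536 * y - 133 / 576 * x + 3437 / 589824) • s
      + (-(35 / 32) * x ^ 2 + 7 / 4096 * y + 5131 / 73728 * x - 10003 / 9437184) • a1
      + (49 / 576 * x ^ 2 + 49 / 147456 * y - 539 / 73728 * x + 637 / 4718592) • a0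
      + (49 / 768 * x - 49 / 196608) • o
      + (343 / 73728 * x - 1715 / 18874368) • m1
      + (-(49 / 8192) * x + 2989 / 18874368) • a2
      + (-(49 / 147456) : ℝ) • e
      + (49 / 4718592 : ℝ) • m2) = 0 := by
    have h := congrArg (mul a1) R
    simp only [map_add, map_smul, map_zero, h1.idem, pa10, pa1m1, pa2, pa3, pa1e, pa1o] at h
    linear_combination (norm := module) h + (1 / 24 : ℝ) • R
  have R4 : (7 / 6 * x ^ 2 + 7 / 1536 * y - 21 / 256 * x + 77 / 65536) • a2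
      + (-(7 / 6) * x ^ 2 - 7 / 1536 * y + 21 / 256 * x - 77 / 65536) • a1
      + (49 / 768 * x - 49 / 32768) • a3 + (-(49 / 6144) : ℝ) • e
      + (-(49 / 768) * x + 49 / 32768) • a0 + (49 / 196608 : ℝ) • a4
      + (49 / 6144 : ℝ) • o + (-(49 / 196608) : ℝ) • m1 = 0 := by
    have h := congrArg ν R
    simpa only [map_add, map_smul, map_zero, h1.fix1, hA2, νa2, hA3, νa3, hA4, νe, νo] using h
  have Y' : (49 / 196608 : ℝ) • mul a0 a3
      + ((7 / 6 * x ^ 2 + 7 / 1536 * y - 133 / 576 * x + 3437 / 589824) • s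
      + (-(35 / 32) * x ^ 2 + 7 / 4096 * y + 5131 / 73728 * x - 10003 / 9437184) • a3
      + (49 / 576 * x ^ 2 + 49 / 147456 * y - 539 / 73728 * x + 637 / 4718592) • a2
      + (49 / 768 * x - 49 / 196608) • o
      + (343 / 73728 * x - 1715 / 18874368) • a1
      + (-(49 / 8192) * x + 2989 / 18874368) • a4
      + (-(49 / 147456) : ℝ) • e
      + (49 / 4718592 : ℝ) • a0) = 0 := by
    have h := congrArg (fun v => ν (μ v)) Y
    simpa only [map_add, map_smul, map_zero, h0.mapMul, h1.mapMul, h0.fix1, h1.fix1, hM1, μm1, hM2, μm2,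
      hA2, νa2, hA3, hA4, μs, νs, μe, νe, μo, νo, h0.comm a3 a0] using h
  have D : (-(7 / 16) * x ^ 2 - 7 / 4096 * y + 7 / 1024 * x + 63 / 524288) • a0
      + (-28 * x ^ 3 - 7 / 64 * x * y + 21 / 8 * x ^ 2 + 21 / 8192 * y - 35 / 512 * x + 273 / 524288) • a1
      + (-(49 / 192) * x + 245 / 49152) • e
      + (28 * x ^ 3 + 7 / 64 * x * y - 21 / 8 * x ^ 2 - 21 / 8192 * y + 35 / 512 * x - 273 / 524288) • a2
      + (7 / 16 * x ^ 2 + 7 / 4096 * y - 7 / 1024 * x - 63 / 524288) • a3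
      + (49 / 192 * x - 245 / 49152) • o = 0 := by
    linear_combination (norm := module) X + Y' + (24 * x - 61 / 96) • R4 + (1 / 24 : ℝ) • R
  -- inner products
  have b20 : B a2 a0 = y := by rw [h0.symm, hy]
  have b21 : B a2 a1 = x := by rw [h0.symm, b12]
  have b23 : B a2 a3 = x := by rw [← hA2, ← hA3, h1.isom, b0m1]
  have b32 : B a3 a2 = x := by rw [h0.symm, b23]
  have b31 : B a3 a1 = y := by
    conv_lhs => rw [← hA3, ← h1.fix1]
    rw [h1.isom, h0.symm, hz]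
  have u3 : B a3 a3 = 1 := by rw [← hA3, h1.isom, um1]
  have c0s : B a0 s = 31 / 32 * x - 1 / 32 := by
    rw [hs, sig]
    simp only [map_sub, map_smul, map_add, smul_eq_mul, h0.unit, hx]
    rw [h0.assoc, h0.idem, hx]
    ring
  have c1s : B a1 s = 31 / 32 * x - 1 / 32 := by
    rw [hs', sig]
    simp only [map_sub, map_smul, map_add, smul_eq_mul, h1.unit, hx']
    rw [h0.assoc, h1.idem, hx']
    ring
  have c0e : B a0 e = 31 / 32 * y - 1 / 32 := by
    rw [he, sig]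
    simp only [map_sub, map_smul, map_add, smul_eq_mul, h0.unit, hy]
    rw [h0.assoc, h0.idem, hy]
    ring
  have c1o : B a1 o = 31 / 32 * y - 1 / 32 := by
    rw [ho, sig]
    simp only [map_sub, map_smul, map_add, smul_eq_mul, h1.unit, hz]
    rw [h0.assoc, h1.idem, hz]
    ring
  have cm1s : B m1 s = 31 / 32 * x - 1 / 32 := by
    conv_lhs => rw [← hM1, ← μs]
    rw [h0.isom, c1s]
  have c2s : B a2 s = 31 / 32 * x - 1 / 32 := by
    conv_lhs => rw [← hA2, ← νs]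
    rw [h1.isom, c0s]
  have c0o : B a0 o = 15 / 16 * x + 1 / 32 * y - 1 / 32 := by
    rw [ho, sig]
    simp only [map_sub, map_smul, map_add, smul_eq_mul, hx, b0m1]
    rw [h0.assoc, pa01]
    simp only [map_add, map_smul, LinearMap.add_apply, LinearMap.smul_apply, smul_eq_mul, hz, b0m1,
      h0.symm s m1, cm1s]
    ring
  have c1e : B a1 e = 15 / 16 * x + 1 / 32 * y - 1 / 32 := by
    rw [he, sig]
    simp only [map_sub, map_smul, map_add, smul_eq_mul, hx', b12]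
    rw [h0.assoc, pa10]
    simp only [map_add, map_smul, LinearMap.add_apply, LinearMap.smul_apply, smul_eq_mul, hy, b12,
      h0.symm s a2, c2s]
    ring
  have c2e : B a2 e = 31 / 32 * y - 1 / 32 := by
    conv_lhs => rw [← hA2, ← νe]
    rw [h1.isom, c0e]
  have c2o : B a2 o = 15 / 16 * x + 1 / 32 * y - 1 / 32 := by
    conv_lhs => rw [← hA2, ← νo]
    rw [h1.isom, c0o]
  have c3e : B a3 e = 15 / 16 * x + 1 / 32 * y - 1 / 32 := by
    conv_lhs => rw [← hA3, ← hM1, ← νe, ← μe]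
    rw [h1.isom, h0.isom, c1e]
  have c3o : B a3 o = 31 / 32 * y - 1 / 32 := by
    conv_lhs => rw [← hA3, ← hM1, ← νo, ← μo]
    rw [h1.isom, h0.isom, c1o]
  have b0m2 : B a0 m2 = y := by
    conv_lhs => rw [← hM2, ← h0.fix1]
    rw [h0.isom, hy]
  have hl3 : B a0 a3 = -(32768 / 7) * x ^ 3 - 1920 / 7 * x * y + 36864 / 7 * x ^ 2 - 33 / 7 * y
      - 2169 / 7 * x + 33 / 7 := by
    have h := congrArg (B a0) R
    simp only [map_add, map_smul, map_zero, smul_eq_mul, h0.unit, hx, b0m1, hy, b0m2, c0e, c0o] at h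
    linear_combination (-196608 / 49 : ℝ) * h
  have b30 : B a3 a0 = B a0 a3 := h0.symm a3 a0
  refine ⟨roots_of_eqs x y ?_ ?_, hl3, ?_⟩
  · have h := congrArg (B a2) D
    simp only [map_add, map_smul, map_zero, smul_eq_mul, u2, b20, b21, b23, c2e, c2o] at h
    linear_combination h
  · have h := congrArg (B a3) D
    simp only [map_add, map_smul, map_zero, smul_eq_mul, u3, b30, hl3, b31, b32, c3e, c3o] at h
    linear_combination h
  · intro ex ey
    have b2m1 : B a2 m1 = B a0 a3 := by rw [← hA2, ← hA3, ← h1.isom, inv h1]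
    have bm20 : B m2 a0 = y := by rw [h0.symm, b0m2]
    have bm21 : B m2 a1 = B a0 a3 := by rw [← hM2, ← μm1, h0.isom, b2m1]
    have bm2m1 : B m2 m1 = x := by rw [← hM2, ← hM1, h0.isom, b21]
    have bm2e : B m2 e = 31 / 32 * y - 1 / 32 := by
      conv_lhs => rw [← hM2, ← μe]
      rw [h0.isom, c2e]
    have bm2o : B m2 o = 15 / 16 * x + 1 / 32 * y - 1 / 32 := by
      conv_lhs => rw [← hM2, ← μo]
      rw [h0.isom, c2o]
    have h2 := congrArg (B a2) R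
    have h := congrArg (B m2) R
    simp only [map_add, map_smul, map_zero, smul_eq_mul, u2, b20, b21, b23, b2m1, hl3, c2e, c2o, ex, ey] at h2
    simp only [map_add, map_smul, map_zero, smul_eq_mul, um2, bm20, bm21, bm2m1, hl3, h0.symm m2 a2,
      bm2e, bm2o, ex, ey] at h
    linarith

end Cfsg.Agent.Sakuma
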