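import Cfsg.Prelude.Def_AxialAlgebras

/-!
Two Majorana axes: the products forced by the fusion law (first steps of Sakuma's theorem).
-/

set_option autoImplicit false

namespace Cfsg.Agent.Sakuma

open Cfsg.Axial

variable {V : Type*} [AddCommGroup V] [Module ℝ V]

/-- Facts about a Majorana axis of squared length one together with its involution. -/
structure Ax (mul : V →ₗ[ℝ] V →ₗ[ℝ] V) (B : LinearMap.BilinForm ℝ V) (μ : V ≃ₗ[ℝ] V) (a : V) : Prop where
  amb : IsMajoranaAmbient mul B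
  pair : IsMajoranaPair mul B μ a
  unit : B a a = 1

namespace Ax

variable {mul : V →ₗ[ℝ] V →ₗ[ℝ] V} {B : LinearMap.BilinForm ℝ V} {μ : V ≃ₗ[ℝ] V} {a : V}

theorem mem_eigen (v : V) (c : ℝ) : v ∈ eigen mul a c ↔ mul a v = c • v :=
  Module.End.mem_eigenspace_iff

theorem comm (h : Ax mul B μ a) (u v : V) : mul u v = mul v u := h.amb.1 u v
theorem symm (h : Ax mul B μ a) (u v : V) : B u v = B v u := h.amb.2.1 u v
theorem assoc (h : Ax mul B μ a) (u v w : V) : B u (mul v w) = B (mul u v) w := h.amb.2.2.2.1 u v w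
theorem mapMul (h : Ax mul B μ a) (u v : V) : μ (mul u v) = mul (μ u) (μ v) := h.pair.1 u v
theorem isom (h : Ax mul B μ a) (u v : V) : B (μ u) (μ v) = B u v := h.pair.2.1 u v
theorem idem (h : Ax mul B μ a) : mul a a = a := h.pair.2.2.1.1.2.1

theorem eq_of_unit (h : Ax mul B μ a) {p q : V} (hp : B p p = 1) (hq : B q q = 1) (hpq : B p q = 1) : p = q := by
  by_contra hne
  have h0 := h.amb.2.2.1 (p - q) (sub_ne_zero.2 hne)
  simp only [map_sub, LinearMap.sub_apply, h.symm q p, hp, hq, hpq] at h0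
  linarith

theorem mem_sum {S : Set ℝ} {c : ℝ} (hc : c ∈ S) {v : V} (hv : mul a v = c • v) : v ∈ eigenSum mul a S :=
  Submodule.mem_iSup_of_mem c (Submodule.mem_iSup_of_mem hc ((mem_eigen v c).2 hv))

theorem fix1 (h : Ax mul B μ a) : μ a = a :=
  h.pair.2.2.2.1 a (mem_sum (c := 1) (by simp) (by rw [one_smul, h.idem]))

theorem fix0 (h : Ax mul B μ a) {u : V} (hu : mul a u = 0) : μ u = u :=
  h.pair.2.2.2.1 u (mem_sum (c := 0) (by simp) (by rw [zero_smul, hu]))

theorem fix4 (h : Ax mul B μ a) {v : V} (hv : mul a v = (1 / 4 : ℝ) • v) : μ v = v :=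
  h.pair.2.2.2.1 v (mem_sum (c := 1 / 4) (by simp) hv)

theorem neg32 (h : Ax mul B μ a) {w : V} (hw : mul a w = (1 / 32 : ℝ) • w) : μ w = -w :=
  h.pair.2.2.2.2 w ((mem_eigen w _).2 hw)

theorem orth0 (h : Ax mul B μ a) {u : V} (hu : mul a u = 0) : B a u = 0 := by
  have := h.assoc a a u
  rw [hu, h.idem, map_zero] at this
  exact this.symm

theorem orth (h : Ax mul B μ a) {u v : V} {c d : ℝ} (hu : mul a u = c • u) (hv : mul a v = d • v)
    (hcd : c ≠ d) : B u v = 0 := by
  have := h.assoc u a v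
  rw [hv, h.comm u a, hu, map_smul, map_smul, LinearMap.smul_apply, smul_eq_mul, smul_eq_mul] at this
  exact (mul_eq_zero.1 (show (d - c) * B u v = 0 by linarith)).resolve_left (sub_ne_zero.2 hcd.symm)

theorem orth4 (h : Ax mul B μ a) {v : V} (hv : mul a v = (1 / 4 : ℝ) • v) : B a v = 0 :=
  h.orth (c := 1) (by rw [one_smul, h.idem]) hv (by norm_num)

theorem decomp (h : Ax mul B μ a) (b : V) :
    ∃ u v w : V, mul a u = 0 ∧ mul a v = (1 / 4 : ℝ) • v ∧ mul a w = (1 / 32 : ℝ) • w ∧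
      b = B a b • a + u + v + w := by
  have htop : eigenSum mul a majoranaSpectrum = ⊤ := h.pair.2.2.1.1.2.2.1
  have hone : eigen mul a 1 = Submodule.span ℝ {a} := h.pair.2.2.1.2
  have hle : eigenSum mul a majoranaSpectrum ≤
      eigen mul a 1 ⊔ eigen mul a 0 ⊔ eigen mul a (1 / 4) ⊔ eigen mul a (1 / 32) := by
    refine iSup₂_le fun c hc => ?_
    simp only [majoranaSpectrum, Set.mem_insert_iff, Set.mem_singleton_iff] at hc
    rcases hc with rfl | rfl | rfl | rfl
    · exact le_sup_of_le_left (le_sup_of_le_left le_sup_left)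
    · exact le_sup_of_le_left (le_sup_of_le_left le_sup_right)
    · exact le_sup_of_le_left le_sup_right
    · exact le_sup_right
  have hm : b ∈ eigen mul a 1 ⊔ eigen mul a 0 ⊔ eigen mul a (1 / 4) ⊔ eigen mul a (1 / 32) :=
    hle (htop ▸ Submodule.mem_top)
  obtain ⟨p, hp, w, hw, rfl⟩ := Submodule.mem_sup.1 hm
  obtain ⟨p', hp', v, hv, rfl⟩ := Submodule.mem_sup.1 hp
  obtain ⟨s, hs, u, hu, rfl⟩ := Submodule.mem_sup.1 hp'
  rw [hone, Submodule.mem_span_singleton] at hs
  obtain ⟨α, rfl⟩ := hs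
  rw [mem_eigen] at hu hv hw
  rw [zero_smul] at hu
  refine ⟨u, v, w, hu, hv, hw, ?_⟩
  have aw : B a w = 0 := h.orth (c := 1) (by rw [one_smul, h.idem]) hw (by norm_num)
  have : B a (α • a + u + v + w) = α := by simp [h.unit, h.orth0 hu, h.orth4 hv, aw]
  rw [this]

theorem sum_single {S : Set ℝ} {c : ℝ} (hS : S = {c}) {v : V} (hv : v ∈ eigenSum mul a S) :
    mul a v = c • v := by
  subst hS
  simp only [eigenSum, Set.mem_singleton_iff, iSup_iSup_eq_left] at hv
  exact (mem_eigen v c).1 hv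

theorem fus00 (h : Ax mul B μ a) {u u' : V} (hu : mul a u = 0) (hu' : mul a u' = 0) :
    mul a (mul u u') = 0 := by
  have := h.pair.2.2.1.1.2.2.2 0 (by simp [majoranaSpectrum]) 0 (by simp [majoranaSpectrum]) u
    ((mem_eigen u 0).2 (by rw [zero_smul, hu])) u' ((mem_eigen u' 0).2 (by rw [zero_smul, hu']))
  rw [sum_single (c := 0) (by simp [monsterLaw]) this, zero_smul]

theorem fus04 (h : Ax mul B μ a) {u v : V} (hu : mul a u = 0) (hv : mul a v = (1 / 4 : ℝ) • v) :
    mul a (mul u v) = (1 / 4 : ℝ) • mul u v := by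
  have := h.pair.2.2.1.1.2.2.2 0 (by simp [majoranaSpectrum]) (1 / 4) (by simp [majoranaSpectrum]) u
    ((mem_eigen u 0).2 (by rw [zero_smul, hu])) v ((mem_eigen v _).2 hv)
  exact sum_single (c := 1 / 4)
    (by simp [monsterLaw, show ¬ ((1 : ℝ) / 4 = 1 / 32) by norm_num]) this

theorem fus44 (h : Ax mul B μ a) {v v' : V} (hv : mul a v = (1 / 4 : ℝ) • v)
    (hv' : mul a v' = (1 / 4 : ℝ) • v') :
    mul a (mul v v') = (1 / 4 * B v v') • a := by
  have hmem := h.pair.2.2.1.1.2.2.2 (1 / 4) (by simp [majoranaSpectrum]) (1 / 4)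
    (by simp [majoranaSpectrum]) v ((mem_eigen v _).2 hv) v' ((mem_eigen v' _).2 hv')
  have hlaw : monsterLaw (1 / 4 : ℝ) (1 / 32) (1 / 4) (1 / 4) = {1, 0} := by
    simp [monsterLaw, show ¬ ((1 : ℝ) / 4 = 1 / 32) by norm_num]
  rw [hlaw] at hmem
  have hone : eigen mul a 1 = Submodule.span ℝ {a} := h.pair.2.2.1.2
  have hsplit : eigenSum mul a {1, 0} ≤ eigen mul a 1 ⊔ eigen mul a 0 := by
    refine iSup₂_le fun c hc => ?_
    rcases hc with rfl | rfl
    · exact le_sup_left
    · exact le_sup_right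
  obtain ⟨p, hp, q, hq, hpq⟩ := Submodule.mem_sup.1 (hsplit hmem)
  rw [hone, Submodule.mem_span_singleton] at hp
  obtain ⟨c, rfl⟩ := hp
  rw [mem_eigen, zero_smul] at hq
  have hval : B a (mul v v') = 1 / 4 * B v v' := by
    rw [h.assoc, hv, map_smul, LinearMap.smul_apply, smul_eq_mul]
  rw [← hpq] at hval ⊢
  simp only [map_add, map_smul, h.unit, h.orth0 hq, smul_eq_mul, mul_one, add_zero] at hval
  rw [map_add, map_smul, h.idem, hq, add_zero, hval]

/-- The invariant vector of the pair `a, b`. -/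
noncomputable def sig (mul : V →ₗ[ℝ] V →ₗ[ℝ] V) (a b : V) : V := mul a b - (1 / 32 : ℝ) • (a + b)

theorem sig_prod (a b : V) : mul a b = sig mul a b + (1 / 32 : ℝ) • (a + b) := by
  rw [sig]; module

theorem sig_comm (h : Ax mul B μ a) (p q : V) : sig mul p q = sig mul q p := by
  rw [sig, sig, h.comm p q, add_comm p q]

/-- The `0`-eigenvector built from `b`, `μ b` and the invariant vector. -/
noncomputable def uvec (a b b' s : V) (x : ℝ) : V :=
  (7 / 16 : ℝ) • (b + b') + (3 * x - 1 / 8) • a - (4 : ℝ) • s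

/-- The `1/4`-eigenvector built from `b`, `μ b` and the invariant vector. -/
noncomputable def vvec (a b b' s : V) (x : ℝ) : V :=
  (1 / 16 : ℝ) • (b + b') + (1 / 8 - 4 * x) • a + (4 : ℝ) • s

theorem key (h : Ax mul B μ a) (b : V) {b' s : V} (hb' : μ b = b') (hs : s = sig mul a b) {x : ℝ}
    (hx : B a b = x) :
    μ s = s ∧
    mul a b' = s + (1 / 32 : ℝ) • (a + b') ∧
    mul a s = (3 / 4 * x - 25 / 1024) • a + (7 / 32 : ℝ) • s + (7 / 2048 : ℝ) • (b + b') ∧
    mul a (uvec a b b' s x) = 0 ∧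
    mul a (vvec a b b' s x) = (1 / 4 : ℝ) • vvec a b b' s x ∧
    B (vvec a b b' s x) (vvec a b b' s x) = B (vvec a b b' s x) b := by
  obtain ⟨u, v, w, hu, hv, hw, hb⟩ := h.decomp b
  rw [hx] at hb
  have hb2 : b' = x • a + u + v - w := by
    rw [← hb', hb, map_add, map_add, map_add, map_smul, h.fix1, h.fix0 hu, h.fix4 hv, h.neg32 hw]
    module
  have hab : mul a b = x • a + (1 / 4 : ℝ) • v + (1 / 32 : ℝ) • w := by
    rw [hb, map_add, map_add, map_add, map_smul, h.idem, hu, hv, hw]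
    module
  have hab' : mul a b' = x • a + (1 / 4 : ℝ) • v - (1 / 32 : ℝ) • w := by
    rw [hb2, map_sub, map_add, map_add, map_smul, h.idem, hu, hv, hw]
    module
  have hs' : s = (31 / 32 * x - 1 / 32) • a - (1 / 32 : ℝ) • u + (7 / 32 : ℝ) • v := by
    rw [hs, sig, hab, hb]
    module
  have hV' : vvec a b b' s x = v := by
    rw [vvec, hs', hb2, hb]
    module
  have hU' : uvec a b b' s x = u := by
    rw [uvec, hs', hb2, hb]
    module
  refine ⟨?_, ?_, ?_, by rw [hU']; exact hu, by rw [hV']; exact hv, ?_⟩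
  · rw [hs', map_add, map_sub, map_smul, map_smul, map_smul, h.fix1, h.fix0 hu, h.fix4 hv]
  · rw [hab', hs', hb2]
    module
  · rw [hs', hb2, hb]
    simp only [map_add, map_sub, map_smul, h.idem, hu, hv]
    module
  · have h1 : B v a = 0 := by rw [h.symm]; exact h.orth4 hv
    have h2 : B v u = 0 := h.orth hv (d := 0) (by rw [zero_smul, hu]) (by norm_num)
    have h3 : B v w = 0 := h.orth hv hw (by norm_num)
    rw [hV', hb]
    simp [h1, h2, h3]

/-- Norton's inequality makes the inner product of two axes non-negative. -/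
theorem inner_nonneg (h : Ax mul B μ a) {b : V} (hb : mul b b = b) : 0 ≤ B a b := by
  have hn := h.amb.2.2.2.2 a b
  rw [h.idem, hb] at hn
  rcases eq_or_ne (mul a b) 0 with h0 | h0
  · simpa [h0] using hn
  · linarith [h.amb.2.2.1 _ h0]

end Ax

open Ax in
/-- The products forced by the two resurrection identities. -/
theorem products {mul : V →ₗ[ℝ] V →ₗ[ℝ] V} {B : LinearMap.BilinForm ℝ V} {μ ν : V ≃ₗ[ℝ] V}
    {a b : V} (ha : Ax mul B μ a) (hb : Ax mul B ν b) {a' b' a'' s e o : V}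
    (ha' : ν a = a') (hb' : μ b = b') (ha'' : μ a' = a'')
    (hs : s = sig mul a b) (he : e = sig mul a a') (ho : o = sig mul b b')
    {x y z : ℝ} (hx : B a b = x) (hy : B a a' = y) (hz : B b b' = z) :
    mul a o = (32 / 3 * x - 19 / 48) • s
        + (-(32 / 3) * x ^ 2 - 1 / 24 * z + 5 / 3 * x - 127 / 3072) • a
        + (1 / 6 * x - 19 / 3072) • (b + b') + (7 / 96 : ℝ) • e + (7 / 6144 : ℝ) • (a' + a'') ∧
    mul s s = (-(5 / 12) * x - 13 / 1536) • s
        + (7 / 6 * x ^ 2 + 7 / 1536 * z - 7 / 384 * x - 7 / 98304) • a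
        + (49 / 768 * x - 245 / 196608) • (b + b') - (7 / 1536 : ℝ) • e
        + (49 / 196608 : ℝ) • (a' + a'') + (7 / 2048 : ℝ) • o := by
  obtain ⟨hμs, pab', pas, hu, hv, hvv⟩ := ha.key b hb' hs hx
  obtain ⟨-, -, pbs, -, -, -⟩ := hb.key a ha' (hs.trans (hb.sig_comm a b)) (x := x) ((hb.symm b a).trans hx)
  obtain ⟨hμe, paa'', -, -, -, -⟩ := ha.key a' ha'' he hy
  have pab : mul a b = s + (1 / 32 : ℝ) • (a + b) := by rw [hs]; exact sig_prod a b
  have paa' : mul a a' = e + (1 / 32 : ℝ) • (a + a') := by rw [he]; exact sig_prod a a'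
  have pbb' : mul b b' = o + (1 / 32 : ℝ) • (b + b') := by rw [ho]; exact sig_prod b b'
  have pb's : mul b' s =
      (3 / 4 * x - 25 / 1024) • b' + (7 / 32 : ℝ) • s + (7 / 2048 : ℝ) • (a + a'') := by
    have := congrArg μ pbs
    rwa [ha.mapMul, map_add, map_add, map_smul, map_smul, map_smul, map_add, hb', hμs, ha.fix1,
      ha''] at this
  have ib' : mul b' b' = b' := by rw [← hb', ← ha.mapMul, hb.idem]
  have qab : mul b a = s + (1 / 32 : ℝ) • (a + b) := (ha.comm b a).trans pab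
  have qab' : mul b' a = s + (1 / 32 : ℝ) • (a + b') := (ha.comm b' a).trans pab'
  have qbb' : mul b' b = o + (1 / 32 : ℝ) • (b + b') := (ha.comm b' b).trans pbb'
  have qas := (ha.comm s a).trans pas
  have qbs := (ha.comm s b).trans pbs
  have qb's := (ha.comm s b').trans pb's
  have F00 := ha.fus00 hu hu
  have F04 := ha.fus04 hu hv
  have F44 := ha.fus44 hv hv
  have hBas : B s b = 31 / 32 * x - 1 / 32 := by
    rw [hs, sig]
    simp only [map_sub, map_smul, map_add, LinearMap.sub_apply, LinearMap.smul_apply, LinearMap.add_apply,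
      smul_eq_mul, ha.symm (mul a b) b, ha.assoc b a b, hx, hb.unit]
    rw [ha.comm b a, ← ha.assoc a b b, hb.idem, hx]
    ring
  have hnorm : B (vvec a b b' s x) (vvec a b b' s x) =
      (1 + z) / 16 + (1 / 8 - 4 * x) * x + 4 * (31 / 32 * x - 1 / 32) := by
    rw [hvv, vvec]
    simp only [map_smul, map_add, LinearMap.smul_apply, LinearMap.add_apply, smul_eq_mul, hb.unit, hx,
      hBas, ha.symm b' b, hz]
    ring
  rw [hnorm] at F44
  have hdiff : mul a (mul (uvec a b b' s x) (uvec a b b' s x)) - mul a (mul (vvec a b b' s x) (vvec a b b' s x))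
      = -((1 / 4 * ((1 + z) / 16 + (1 / 8 - 4 * x) * x + 4 * (31 / 32 * x - 1 / 32))) • a) := by
    rw [F00, F44, zero_sub]
  simp only [uvec, vvec, map_add, map_sub, map_smul, LinearMap.add_apply, LinearMap.sub_apply,
    LinearMap.smul_apply, ha.idem, hb.idem, ib', pab, qab, pab', qab', pbb', qbb', pas, qas, pbs, qbs,
    pb's, qb's, paa', paa''] at hdiff
  have hao : mul a o = (32 / 3 * x - 19 / 48) • s
        + (-(32 / 3) * x ^ 2 - 1 / 24 * z + 5 / 3 * x - 127 / 3072) • a
        + (1 / 6 * x - 19 / 3072) • (b + b') + (7 / 96 : ℝ) • e + (7 / 6144 : ℝ) • (a' + a'') := by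
    linear_combination (norm := module) (8 / 3 : ℝ) • hdiff
  refine ⟨hao, ?_⟩
  have hsum : mul a (mul (uvec a b b' s x) (uvec a b b' s x)) + mul a (mul (uvec a b b' s x) (vvec a b b' s x))
      = (1 / 4 : ℝ) • mul (uvec a b b' s x) (vvec a b b' s x) := by
    rw [F00, F04, zero_add]
  simp only [uvec, vvec, map_add, map_sub, map_smul, LinearMap.add_apply, LinearMap.sub_apply,
    LinearMap.smul_apply, ha.idem, hb.idem, ib', pab, qab, pab', qab', pbb', qbb', pas, qas, pbs, qbs,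
    pb's, qb's, paa', paa'', hao] at hsum
  linear_combination (norm := module) (1 / 4 : ℝ) • hsum

end Cfsg.Agent.Sakuma
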